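import Groth.Agent.KHeartLib.Classes
import Mathlib

/-! # `K₀` of a ring with two principal components meeting transversally -/

set_option autoImplicit false

universe u

open CategoryTheory

namespace NodeK0Lib

open Groth.Agent.KHeartLib

variable {A : Type u} [CommRing A]

abbrev fin (A : Type u) [CommRing A] : ObjectProperty (ModuleCat.{u} A) := fun M => Module.Finite A M

theorem cls_ses {M₁ M₂ M₃ : Type u} [AddCommGroup M₁] [Module A M₁] [AddCommGroup M₂] [Module A M₂]
    [AddCommGroup M₃] [Module A M₃] [Module.Finite A M₁] [Module.Finite A M₂] [Module.Finite A M₃]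
    (f : M₁ →ₗ[A] M₂) (g : M₂ →ₗ[A] M₃) (hf : Function.Injective f) (hg : Function.Surjective g)
    (he : Function.Exact f g) :
    KZero.clSub (fin A) (ModuleCat.of A M₂) =
      KZero.clSub (fin A) (ModuleCat.of A M₁) + KZero.clSub (fin A) (ModuleCat.of A M₃) := by
  let S : ShortComplex (ModuleCat.{u} A) := ShortComplex.moduleCatMk f g (LinearMap.ext fun x => he.apply_apply_eq_zero x)
  have hS : S.ShortExact :=
    { exact := (ShortComplex.ShortExact.moduleCat_exact_iff_function_exact S).2 he
      mono_f := (ModuleCat.mono_iff_injective _).2 hf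
      epi_g := (ModuleCat.epi_iff_surjective _).2 hg }
  exact clSub_add (fin A) S hS ‹_› ‹_› ‹_›

theorem cls_equiv {M N : Type u} [AddCommGroup M] [Module A M] [AddCommGroup N] [Module A N]
    [Module.Finite A M] (e : M ≃ₗ[A] N) :
    KZero.clSub (fin A) (ModuleCat.of A M) = KZero.clSub (fin A) (ModuleCat.of A N) := by
  haveI := Module.Finite.equiv e
  have h := cls_ses (e : M →ₗ[A] N) (0 : N →ₗ[A] PUnit.{u + 1}) e.injective
    (fun x => ⟨0, Subsingleton.elim _ _⟩) (fun x => ⟨fun _ => e.surjective x, fun _ => rfl⟩)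
  rw [h, clSub_eq_zero (P := fin A) (X := ModuleCat.of A PUnit.{u + 1})
    (inferInstanceAs (Module.Finite A PUnit.{u + 1})) (ModuleCat.isZero_of_subsingleton _), add_zero]

theorem cls_pi (B : Type u) [AddCommGroup B] [Module A B] [Module.Finite A B] (n : ℕ) :
    KZero.clSub (fin A) (ModuleCat.of A (Fin n → B)) = n • KZero.clSub (fin A) (ModuleCat.of A B) := by
  induction n with
  | zero =>
    rw [zero_smul]
    exact clSub_eq_zero (P := fin A) (X := ModuleCat.of A (Fin 0 → B))
      (inferInstanceAs (Module.Finite A (Fin 0 → B))) (ModuleCat.isZero_of_subsingleton _)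
  | succ n ih =>
    rw [cls_equiv (Fin.consLinearEquiv A (fun _ : Fin (n + 1) => B)).symm,
      cls_ses (LinearMap.inl A B (Fin n → B)) (LinearMap.snd A B (Fin n → B)) LinearMap.inl_injective
        LinearMap.snd_surjective Function.Exact.inl_snd, ih, succ_nsmul, add_comm]

theorem cls_mem_of_killed (x : A) [IsDomain (A ⧸ Ideal.span {x})]
    [IsPrincipalIdealRing (A ⧸ Ideal.span {x})] (N : Type u) [AddCommGroup N] [Module A N] [Module.Finite A N]
    (hx : ∀ n : N, x • n = 0) :
    KZero.clSub (fin A) (ModuleCat.of A N) ∈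
      AddSubgroup.zmultiples (KZero.clSub (fin A) (ModuleCat.of A (A ⧸ Ideal.span {x}))) := by
  have ht : Module.IsTorsionBySet A N (Ideal.span {x} : Set A) := fun n a => by
    obtain ⟨c, hc⟩ := Ideal.mem_span_singleton'.1 a.2
    rw [← hc, mul_smul, hx, smul_zero]
  letI := ht.module
  haveI : IsScalarTower A (A ⧸ Ideal.span {x}) N := ht.isScalarTower
  haveI : Module.Finite (A ⧸ Ideal.span {x}) N := Module.Finite.of_restrictScalars_finite A _ N
  obtain ⟨n, π, hπ⟩ := Module.Finite.exists_fin' (A ⧸ Ideal.span {x}) N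
  obtain ⟨m, b⟩ := Submodule.basisOfPid (Pi.basisFun (A ⧸ Ideal.span {x}) (Fin n)) (LinearMap.ker π)
  haveI : Module.Finite A (LinearMap.ker π) := Module.Finite.trans (A ⧸ Ideal.span {x}) _
  have h := cls_ses ((LinearMap.ker π).subtype.restrictScalars A) (π.restrictScalars A)
    Subtype.val_injective hπ (LinearMap.exact_subtype_ker_map π)
  have h2 := cls_equiv (A := A) (b.equivFun.restrictScalars A)
  rw [h2, cls_pi, cls_pi] at h
  refine AddSubgroup.mem_zmultiples_iff.2 ⟨(n : ℤ) - m, ?_⟩
  rw [sub_smul, natCast_zsmul, natCast_zsmul, h, add_sub_cancel_left]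

variable [IsNoetherianRing A] (x y : A) (hxy : x * y = 0)

include hxy in
theorem cls_mem [IsDomain (A ⧸ Ideal.span {x})] [IsPrincipalIdealRing (A ⧸ Ideal.span {x})]
    [IsDomain (A ⧸ Ideal.span {y})] [IsPrincipalIdealRing (A ⧸ Ideal.span {y})]
    (M : Type u) [AddCommGroup M] [Module A M] [Module.Finite A M] :
    ∃ a b : ℤ, KZero.clSub (fin A) (ModuleCat.of A M) =
      a • KZero.clSub (fin A) (ModuleCat.of A (A ⧸ Ideal.span {x})) +
        b • KZero.clSub (fin A) (ModuleCat.of A (A ⧸ Ideal.span {y})) := by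
  let f := DistribSMul.toLinearMap A M x
  have h := cls_ses (LinearMap.range f).subtype (LinearMap.range f).mkQ Subtype.val_injective
    (Submodule.mkQ_surjective _) (LinearMap.exact_subtype_mkQ _)
  obtain ⟨a, ha⟩ := AddSubgroup.mem_zmultiples_iff.1 (cls_mem_of_killed x (M ⧸ LinearMap.range f) fun n => by
    obtain ⟨n, rfl⟩ := Submodule.mkQ_surjective _ n
    rw [← map_smul, Submodule.mkQ_apply, Submodule.Quotient.mk_eq_zero]
    exact ⟨n, rfl⟩)
  obtain ⟨b, hb⟩ := AddSubgroup.mem_zmultiples_iff.1 (cls_mem_of_killed y (LinearMap.range f) fun n => by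
    obtain ⟨_, n, rfl⟩ := n
    refine Subtype.ext ?_
    show y • (x • n) = 0
    rw [← mul_smul, mul_comm, hxy, zero_smul])
  exact ⟨a, b, by rw [h, ← ha, ← hb, add_comm]⟩

include hxy in
theorem exists_rank [(Ideal.span {x}).IsPrime] (hy : y ∉ Ideal.span {x}) :
    ∃ φ : KZero.K0sub (fin A) →+ ℤ,
      φ (KZero.clSub (fin A) (ModuleCat.of A (A ⧸ Ideal.span {x}))) = 1 ∧
        φ (KZero.clSub (fin A) (ModuleCat.of A (A ⧸ Ideal.span {y}))) = 0 := by
  let p : Ideal A := Ideal.span {x}
  let L := Localization.AtPrime p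
  have hu : IsUnit (algebraMap A L y) := IsLocalization.map_units L (⟨y, hy⟩ : p.primeCompl)
  have hx0 : algebraMap A L x = 0 := hu.mul_left_eq_zero.1 (by rw [← map_mul, hxy, map_zero])
  have hF : IsField L := IsLocalRing.isField_iff_maximalIdeal_eq.2 (by
    rw [← Localization.AtPrime.map_eq_maximalIdeal, Ideal.map_span, Set.image_singleton, hx0, Ideal.span_singleton_eq_bot])
  let len : ModuleCat.{u} A → ℤ := fun M => ((Module.length L (LocalizedModule p.primeCompl M)).toNat : ℤ)
  have hfin : ∀ (M : Type u) [AddCommGroup M] [Module A M] [Module.Finite A M],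
      Module.length L (LocalizedModule p.primeCompl M) ≠ ⊤ := fun M _ _ _ => by
    letI := hF.toField
    haveI : Module.Finite L (LocalizedModule p.primeCompl M) :=
      Module.Finite.of_isLocalizedModule p.primeCompl (LocalizedModule.mkLinearMap p.primeCompl M)
    exact Module.length_ne_top
  obtain ⟨φ, hφ⟩ := exists_lift_sub (fin A) len fun S hS h₁ h₂ h₃ => by
    have h := Module.length_eq_add_of_exact (LocalizedModule.map p.primeCompl S.f.hom)
      (LocalizedModule.map p.primeCompl S.g.hom)
      (LocalizedModule.map_injective _ _ hS.moduleCat_injective_f)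
      (LocalizedModule.map_surjective _ _ hS.moduleCat_surjective_g)
      (LocalizedModule.map_exact _ _ _ ((ShortComplex.ShortExact.moduleCat_exact_iff_function_exact S).1 hS.exact))
    haveI : Module.Finite A S.X₁ := h₁
    haveI : Module.Finite A S.X₃ := h₃
    simp only [len]
    rw [h, ENat.toNat_add (hfin _) (hfin _)]
    push_cast
    rfl
  refine ⟨φ, ?_, ?_⟩
  · rw [hφ _ (inferInstanceAs (Module.Finite A (A ⧸ p)))]
    have e : LocalizedModule p.primeCompl A ≃ₗ[L] LocalizedModule p.primeCompl (A ⧸ p) := by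
      refine LinearEquiv.ofBijective (LocalizedModule.map p.primeCompl p.mkQ) ⟨?_, LocalizedModule.map_surjective _ _ (Submodule.mkQ_surjective _)⟩
      rw [injective_iff_map_eq_zero]
      intro z hz
      induction z using LocalizedModule.induction_on with
      | _ a s =>
        rw [LocalizedModule.map_mk, ← LocalizedModule.zero_mk s, LocalizedModule.mk_eq] at hz
        obtain ⟨⟨t, ht⟩, hz⟩ := hz
        simp only [Submonoid.mk_smul, smul_zero, Submonoid.smul_def, smul_smul] at hz
        obtain ⟨t, ht, hz⟩ : ∃ t ∈ p.primeCompl, t • p.mkQ a = 0 := ⟨t * s, mul_mem ht s.2, hz⟩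
        rw [← map_smul, Submodule.mkQ_apply, Submodule.Quotient.mk_eq_zero] at hz
        obtain ⟨c, hc⟩ := Ideal.mem_span_singleton'.1 hz
        rw [← LocalizedModule.zero_mk s, LocalizedModule.mk_eq]
        refine ⟨⟨t * y, mul_mem ht hy⟩, ?_⟩
        simp only [smul_zero, Submonoid.mk_smul, Submonoid.smul_def, smul_eq_mul]
        suffices h0 : t * y * a = 0 by linear_combination (s : A) * h0
        calc t * y * a = (t • a) * y := by rw [smul_eq_mul]; ring
          _ = c * (x * y) := by rw [← hc]; ring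
          _ = 0 := by rw [hxy, mul_zero]
    have e' : LocalizedModule p.primeCompl A ≃ₗ[L] L :=
      (IsLocalizedModule.iso p.primeCompl (Algebra.linearMap A L)).extendScalarsOfIsLocalization p.primeCompl L
    show ((Module.length L (LocalizedModule p.primeCompl (A ⧸ p))).toNat : ℤ) = 1
    letI := hF.toField
    rw [← e.length_eq, e'.length_eq, Module.length_eq_finrank, Module.finrank_self]
    simp
  · rw [hφ _ (inferInstanceAs (Module.Finite A (A ⧸ Ideal.span {y})))]
    haveI : Subsingleton (LocalizedModule p.primeCompl (A ⧸ Ideal.span {y})) :=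
      LocalizedModule.subsingleton_iff.2 fun m => ⟨y, hy, by
        obtain ⟨m, rfl⟩ := Ideal.Quotient.mk_surjective m
        show Ideal.Quotient.mk (Ideal.span {y}) (y * m) = 0
        exact Ideal.Quotient.eq_zero_iff_mem.2 (Ideal.mul_mem_right _ _ (Ideal.mem_span_singleton_self y))⟩
    show ((Module.length L (LocalizedModule p.primeCompl (A ⧸ Ideal.span {y}))).toNat : ℤ) = 0
    simp [Module.length_eq_zero]

include hxy in
theorem bijective [IsDomain (A ⧸ Ideal.span {x})] [IsPrincipalIdealRing (A ⧸ Ideal.span {x})]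
    [IsDomain (A ⧸ Ideal.span {y})] [IsPrincipalIdealRing (A ⧸ Ideal.span {y})]
    (hy : y ∉ Ideal.span {x}) (hx : x ∉ Ideal.span {y}) :
    Function.Bijective (fun p : ℤ × ℤ =>
      p.1 • KZero.clSub (fin A) (ModuleCat.of A (A ⧸ Ideal.span {x})) +
        p.2 • KZero.clSub (fin A) (ModuleCat.of A (A ⧸ Ideal.span {y}))) := by
  haveI := (Ideal.Quotient.isDomain_iff_prime (Ideal.span {x})).1 inferInstance
  haveI := (Ideal.Quotient.isDomain_iff_prime (Ideal.span {y})).1 inferInstance
  obtain ⟨φ₁, h11, h12⟩ := exists_rank x y hxy hy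
  obtain ⟨φ₂, h22, h21⟩ := exists_rank y x (by rw [mul_comm, hxy]) hx
  constructor
  · rintro ⟨a, b⟩ ⟨a', b'⟩ h
    have e1 := congrArg φ₁ h
    have e2 := congrArg φ₂ h
    simp only [map_add, map_zsmul, h11, h12, h21, h22, smul_eq_mul, mul_one, mul_zero, add_zero, zero_add] at e1 e2
    rw [e1, e2]
  · intro z
    have hz : z ∈ AddSubgroup.closure {c | ∃ X : ModuleCat.{u} A, fin A X ∧ KZero.clSub (fin A) X = c} := by
      rw [clSub_closure_eq_top]; trivial
    induction hz using AddSubgroup.closure_induction with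
    | mem c hc =>
      obtain ⟨X, hX, rfl⟩ := hc
      haveI : Module.Finite A X := hX
      obtain ⟨a, b, h⟩ := cls_mem x y hxy X
      exact ⟨(a, b), h.symm⟩
    | zero => exact ⟨0, by simp⟩
    | add c d _ _ hc hd =>
      obtain ⟨p, hp⟩ := hc
      obtain ⟨q, hq⟩ := hd
      exact ⟨p + q, by rw [← hp, ← hq]; simp only [Prod.fst_add, Prod.snd_add, add_smul]; abel⟩
    | neg c _ hc =>
      obtain ⟨p, hp⟩ := hc
      exact ⟨-p, by rw [← hp]; simp only [Prod.fst_neg, Prod.snd_neg, neg_smul]; abel⟩

end NodeK0Lib
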